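import Groth.Agent.Lib.PHS.Ga
import Groth.Prelude.Def_AlgGrp

/-!
# Lifting field-valued points along an extension by the additive group
-/

set_option autoImplicit false

noncomputable section

universe u

open CategoryTheory CategoryTheory.Limits MonoidalCategory CartesianMonoidalCategory MonObj GrpObj AlgebraicGeometry
open scoped TensorProduct

namespace Groth.Agent.Lib.GaUniRat

open Groth.Agent.Lib.PHS Groth.Agent.Lib.PHS.Basic Groth.Agent.Lib.RedPts

variable {S : Scheme.{u}} {A B : Type u} [CommRing A] [CommRing B] [Algebra A B] [Module.FaithfullyFlat A B]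

theorem exists_lift_point {G G' : Over S} [GrpObj G] [IsCommMonObj G] [GrpObj G'] (q : G ⟶ G') [IsMonHom q]
    (i : Red.Ga S ⟶ G) [IsMonHom i] (hker : AlgGrp.IsKernel i q)
    (j : Spec (CommRingCat.of A) ⟶ S) (x : Over.mk j ⟶ G') (s : P1 B j ⟶ G)
    (hs : s ≫ q = (Over.homMk (Basic.q A B) rfl : P1 B j ⟶ Over.mk j) ≫ x) :
    ∃ σ : Spec (CommRingCat.of A) ⟶ G.left, σ ≫ q.left = x.left := by
  have hmono : ∀ {T : Over S} (u v : T ⟶ Red.Ga S), u ≫ i = v ≫ i → u = v := fun u v h =>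
    hker.hom_ext h (toUnit_unique _ _)
  let π : P1 B j ⟶ Over.mk j := Over.homMk (Basic.q A B) rfl
  have hπ : ∀ {C : Type u} [CommRing C] [Algebra A C] (ψ φ : B →ₐ[A] C), ov j ψ ≫ π = ov j φ ≫ π := by
    intro C _ _ ψ φ
    refine Over.OverMorphism.ext ?_
    change Spec.map _ ≫ Spec.map _ = Spec.map _ ≫ Spec.map _
    rw [← Spec.map_comp, ← Spec.map_comp, ← CommRingCat.ofHom_comp, ← CommRingCat.ofHom_comp]
    exact congrArg (fun f => Spec.map (CommRingCat.ofHom f))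
      ((ψ.comp_algebraMap).trans φ.comp_algebraMap.symm)
  have hdiff : ∀ {C : Type u} [CommRing C] [Algebra A C] (ψ φ : B →ₐ[A] C),
      ∃ g, g ≫ i = (ov j ψ ≫ s) / (ov j φ ≫ s) := by
    intro C _ _ ψ φ
    refine ⟨hker.lift ((ov j ψ ≫ s) / (ov j φ ≫ s)) (toUnit _) ?_, hker.lift_fst _ _ _⟩
    rw [GrpObj.div_comp, Category.assoc, Category.assoc, hs, ← Category.assoc, ← Category.assoc,
      hπ ψ φ, div_self']
    exact Hom.one_def
  obtain ⟨g, hg⟩ := hdiff (Algebra.TensorProduct.includeLeft : B →ₐ[A] B ⊗[A] B) Algebra.TensorProduct.includeRight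
  have hcoc : (ov j (EtH1Gm.RingDesc.d (EtH1Gm.RingDesc.j₂ A B) (EtH1Gm.RingDesc.j₃ A B)) ≫ g) *
      (ov j (EtH1Gm.RingDesc.d (EtH1Gm.RingDesc.j₁ A B) (EtH1Gm.RingDesc.j₂ A B)) ≫ g) =
      ov j (EtH1Gm.RingDesc.d (EtH1Gm.RingDesc.j₁ A B) (EtH1Gm.RingDesc.j₃ A B)) ≫ g := by
    apply hmono
    have h : ∀ a b : B →ₐ[A] (B ⊗[A] B) ⊗[A] B, (ov j (EtH1Gm.RingDesc.d a b) ≫ g) ≫ i =
        (ov j a ≫ s) / (ov j b ≫ s) := fun a b => by
      rw [Category.assoc, hg, GrpObj.comp_div, ← Category.assoc, ← Category.assoc, ov_comp, ov_comp,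
        EtH1Gm.RingDesc.d, Algebra.TensorProduct.lift_comp_includeLeft _ _ fun _ _ => .all _ _,
        show (Algebra.TensorProduct.lift a b fun _ _ => .all _ _).comp Algebra.TensorProduct.includeRight = b from
          AlgHom.ext fun z => by simp]
    rw [MonObj.mul_comp, h, h, h, mul_comm, div_mul_div_cancel]
  have hd : WittU.Amitsur.d1 A B (Ga.gfn g) = 0 := by
    have h := congrArg Ga.gfn hcoc
    rw [Ga.gfn_mul, Ga.gfn_ov, Ga.gfn_ov, Ga.gfn_ov] at h
    rw [Ga.d1_eq, ← h, sub_add_eq_add_sub, sub_self, map_zero]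
  obtain ⟨c, hc⟩ := WittU.Amitsur.exists_of_cocycle (A := A) (C := B) hd
  obtain ⟨t, ht⟩ := Ga.exists_gfn j c
  have hgt : g = (pr₁ B j ≫ t) / (pr₂ B j ≫ t) := by
    rw [eq_div_iff_mul_eq']
    refine Ga.gfn_injective ?_
    rw [Ga.gfn_mul, Ga.gfn_ov, Ga.gfn_ov, ht, ← hc]
    change (c ⊗ₜ[A] 1 - 1 ⊗ₜ[A] c) + (1 : B) ⊗ₜ[A] c = c ⊗ₜ[A] 1
    abel
  let s' : P1 B j ⟶ G := s / (t ≫ i)
  have heq : pr₁ B j ≫ s' = pr₂ B j ≫ s' := by
    simp only [s', GrpObj.comp_div, ← Category.assoc]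
    rw [hgt, GrpObj.div_comp] at hg
    exact div_eq_div_iff_div_eq_div.mp hg.symm
  have hsq : s' ≫ q = π ≫ x := by
    rw [GrpObj.div_comp, hs, Category.assoc, hker.w, ← Category.assoc, toUnit_unique (t ≫ toUnit _) (toUnit _)]
    exact (congrArg (_ / ·) Hom.one_def.symm).trans (div_one _)
  have : Surjective (Basic.q A B) := ⟨PrimeSpectrum.comap_surjective_of_faithfullyFlat⟩
  have : Flat (Basic.q A B) := HasRingHomProperty.Spec_iff.2 (RingHom.flat_algebraMap_iff.2 inferInstance)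
  refine hasSection_of_desc (S := G'.left) (X := Over.mk q.left) (Basic.q A B) x.left s'.left
    (congrArg Over.Hom.left hsq) ?_
  have h := congrArg Over.Hom.left heq
  rw [pullback_fst_eq, pullback_snd_eq, Category.assoc, Category.assoc]
  exact congrArg ((pullbackSpecIso A B B).hom ≫ ·) h

end Groth.Agent.Lib.GaUniRat
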